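import Cfsg.Agent.Zsigmondy.SylowLinear

/-!
The 2-part of the order of `GL n` over a field of odd order.
-/

set_option autoImplicit false

namespace CfsgLib.SylowGLTwo

theorem padic_two_factorial (n : ℕ) :
    padicValNat 2 n.factorial = ∑ i ∈ Finset.Icc 1 n, padicValNat 2 i := by
  induction n with
  | zero => simp
  | succ n ih =>
    rw [Finset.sum_Icc_succ_top (by omega), Nat.factorial_succ,
      padicValNat.mul (by omega) (Nat.factorial_ne_zero n), ih, add_comm]

theorem padic_two_pow_sub_one_odd {q i : ℕ} (hq : Odd q) (hq1 : 1 < q) (hi : Odd i) :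
    padicValNat 2 (q ^ i - 1) = padicValNat 2 (q - 1) := by
  have hsum : Odd (∑ j ∈ Finset.range i, q ^ j) := by
    rw [Nat.odd_iff, Finset.sum_nat_mod]
    have : ∀ j ∈ Finset.range i, q ^ j % 2 = 1 := fun j _ => Nat.odd_iff.1 hq.pow
    rw [Finset.sum_congr rfl this]
    simp [Nat.odd_iff.1 hi]
  have he : q ^ i - 1 = (∑ j ∈ Finset.range i, q ^ j) * (q - 1) :=
    (geom_sum_mul_of_one_le hq1.le i).symm
  rw [he, padicValNat.mul (by intro h; simp [h] at hsum) (by omega),
    padicValNat.eq_zero_of_not_dvd (fun h => Nat.not_even_iff_odd.2 hsum (even_iff_two_dvd.2 h)),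
    zero_add]

theorem padic_two_gl {F : Type*} [Field F] [Fintype F] (hq : Odd (Fintype.card F)) (n : ℕ) :
    padicValNat 2 (Nat.card (GL (Fin n) F)) =
      ∑ i ∈ Finset.Icc 1 n, padicValNat 2 (Fintype.card F ^ i - 1) := by
  rw [CfsgLib.Zsigmondy.SylowLinear.card_gl_eq_prod]
  have hne : ∀ i ∈ Finset.Icc 1 n, Fintype.card F ^ i - 1 ≠ 0 := by
    intro i hi
    exact CfsgLib.Zsigmondy.pow_sub_one_ne_zero Fintype.one_lt_card (by rw [Finset.mem_Icc] at hi; omega)
  have hodd : Odd (∏ i : Fin n, Fintype.card F ^ (i : ℕ)) := by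
    rw [Finset.prod_pow_eq_pow_sum]; exact hq.pow
  rw [padicValNat.mul (fun h => by simp [h] at hodd) (Finset.prod_ne_zero_iff.2 hne),
    padicValNat.eq_zero_of_not_dvd (fun h => Nat.not_even_iff_odd.2 hodd (even_iff_two_dvd.2 h)), zero_add]
  clear hodd
  induction n with
  | zero => simp
  | succ n ih =>
    have hne' : ∀ i ∈ Finset.Icc 1 n, Fintype.card F ^ i - 1 ≠ 0 := fun i hi =>
      hne i (Finset.Icc_subset_Icc_right (by omega) hi)
    rw [Finset.prod_Icc_succ_top (by omega), Finset.sum_Icc_succ_top (by omega),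
      padicValNat.mul (Finset.prod_ne_zero_iff.2 hne') (hne _ (by simp)), ih hne']

/-- `q ≡ 1 mod 4`. -/
theorem padic_two_gl_one {F : Type*} [Field F] [Fintype F] (h4 : Fintype.card F % 4 = 1) (n : ℕ) :
    padicValNat 2 (Nat.card (GL (Fin n) F)) =
      n * padicValNat 2 (Fintype.card F - 1) + padicValNat 2 n.factorial := by
  have hq : Odd (Fintype.card F) := Nat.odd_iff.2 (by omega)
  have h1 : 1 < Fintype.card F := Fintype.one_lt_card
  rw [padic_two_gl hq, padic_two_factorial,
    show n * padicValNat 2 (Fintype.card F - 1) = ∑ _i ∈ Finset.Icc 1 n, padicValNat 2 (Fintype.card F - 1) by simp,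
    ← Finset.sum_add_distrib]
  refine Finset.sum_congr rfl fun i hi => ?_
  rw [Finset.mem_Icc] at hi
  rcases Nat.even_or_odd i with he | ho
  · have h2 : padicValNat 2 (Fintype.card F + 1) = 1 := by
      conv_lhs => rw [show Fintype.card F + 1 = 2 * ((Fintype.card F + 1) / 2) by omega]
      rw [padicValNat.mul (by omega) (by omega), padicValNat_self,
        padicValNat.eq_zero_of_not_dvd (by omega)]
    have := padicValNat.pow_two_sub_one (x := Fintype.card F) h1 (by omega) (by omega : i ≠ 0) he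
    omega
  · rw [padic_two_pow_sub_one_odd hq h1 ho, padicValNat.eq_zero_of_not_dvd (n := i)
      (fun h => Nat.not_even_iff_odd.2 ho (even_iff_two_dvd.2 h)), add_zero]

/-- `q ≡ 3 mod 4`. -/
theorem padic_two_gl_three {F : Type*} [Field F] [Fintype F] (h4 : Fintype.card F % 4 = 3) (m : ℕ) :
    padicValNat 2 (Nat.card (GL (Fin (2 * m)) F)) =
      m * (padicValNat 2 (Fintype.card F + 1) + 2) + padicValNat 2 m.factorial := by
  have hq : Odd (Fintype.card F) := Nat.odd_iff.2 (by omega)
  have h1 : 1 < Fintype.card F := Fintype.one_lt_card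
  have h2 : padicValNat 2 (Fintype.card F - 1) = 1 := by
    conv_lhs => rw [show Fintype.card F - 1 = 2 * ((Fintype.card F - 1) / 2) by omega]
    rw [padicValNat.mul (by omega) (by omega), padicValNat_self,
      padicValNat.eq_zero_of_not_dvd (by omega)]
  rw [padic_two_gl hq, padic_two_factorial]
  induction m with
  | zero => simp
  | succ m ih =>
    rw [show 2 * (m + 1) = 2 * m + 1 + 1 by ring, Finset.sum_Icc_succ_top (by omega),
      Finset.sum_Icc_succ_top (by omega), Finset.sum_Icc_succ_top (a := 1) (b := m) (by omega), ih,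
      padic_two_pow_sub_one_odd hq h1 ⟨m, rfl⟩, h2]
    have h3 := padicValNat.pow_two_sub_one (x := Fintype.card F) (n := 2 * m + 1 + 1) h1 (by omega)
      (by omega) ⟨m + 1, by ring⟩
    have h5 : padicValNat 2 (2 * m + 1 + 1) = 1 + padicValNat 2 (m + 1) := by
      rw [show 2 * m + 1 + 1 = 2 * (m + 1) by ring, padicValNat.mul (by omega) (by omega), padicValNat_self]
    rw [h2, h5] at h3
    ring_nf at h3 ⊢
    omega

theorem padic_two_sl_two_mul_add_one {F : Type*} [Field F] [Fintype F] (hq : Odd (Fintype.card F))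
    (m : ℕ) :
    padicValNat 2 (Nat.card (Matrix.SpecialLinearGroup (Fin (2 * m + 1)) F)) =
      padicValNat 2 (Nat.card (GL (Fin (2 * m)) F)) := by
  have h1 : 1 < Fintype.card F := Fintype.one_lt_card
  have h := congrArg (padicValNat 2) (CfsgLib.Classical.Linear.card_gl_eq (ι := Fin (2 * m + 1)) (F := F))
  rw [padicValNat.mul Nat.card_pos.ne' Nat.card_pos.ne', padic_two_gl hq,
    Finset.sum_Icc_succ_top (by omega), padic_two_pow_sub_one_odd hq h1 ⟨m, rfl⟩,
    ← padic_two_gl hq, CfsgLib.Classical.Linear.natCard_units] at h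
  omega

end CfsgLib.SylowGLTwo
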