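import Mathlib

/-!
Monomial block matrices: `bd g` is block diagonal and `pm σ` permutes the blocks.  For a subgroup
`S` of `GL β F` and a subgroup `T` of `Perm κ`, `wreath S T` is the corresponding wreath product.
-/

set_option autoImplicit false

namespace CfsgLib.SylowGLTwo

open Equiv Matrix

variable {F : Type*} [Field F] {β κ : Type*} [Fintype β] [DecidableEq β] [Fintype κ] [DecidableEq κ]

/-- Block diagonal matrices. -/
noncomputable def bd : (κ → GL β F) →* GL (β × κ) F :=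
  (Units.map (Matrix.blockDiagonalRingHom β κ F).toMonoidHom).comp MulEquiv.piUnits.symm.toMonoidHom

theorem bd_val (g : κ → GL β F) :
    ((bd g : GL (β × κ) F) : Matrix (β × κ) (β × κ) F) =
      Matrix.blockDiagonal (fun k => (g k : Matrix β β F)) := rfl

theorem bd_injective : Function.Injective (bd : (κ → GL β F) →* GL (β × κ) F) :=
  (Units.map_injective Matrix.blockDiagonal_injective).comp MulEquiv.piUnits.symm.injective

/-- The block permutation matrix. -/
def pmat (σ : Perm κ) : Matrix (β × κ) (β × κ) F :=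
  Matrix.of fun a b => if a.1 = b.1 ∧ a.2 = σ b.2 then 1 else 0

theorem pmat_mul_apply (σ : Perm κ) (M : Matrix (β × κ) (β × κ) F) (a b : β × κ) :
    ((pmat σ : Matrix (β × κ) (β × κ) F) * M) a b = M (a.1, σ⁻¹ a.2) b := by
  rw [Matrix.mul_apply, Finset.sum_eq_single (a.1, σ⁻¹ a.2)]
  · simp [pmat]
  · intro c _ hc
    rw [pmat, Matrix.of_apply, if_neg, zero_mul]
    rintro ⟨h1, h2⟩
    exact hc (Prod.ext h1.symm (by simp [h2]))
  · simp

theorem mul_pmat_apply (σ : Perm κ) (M : Matrix (β × κ) (β × κ) F) (a b : β × κ) :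
    (M * (pmat σ : Matrix (β × κ) (β × κ) F)) a b = M a (b.1, σ b.2) := by
  rw [Matrix.mul_apply, Finset.sum_eq_single (b.1, σ b.2)]
  · simp [pmat]
  · intro c _ hc
    rw [pmat, Matrix.of_apply, if_neg, mul_zero]
    rintro ⟨h1, h2⟩
    exact hc (Prod.ext h1 h2)
  · simp

theorem pmat_one : (pmat 1 : Matrix (β × κ) (β × κ) F) = 1 := by
  ext a b
  simp [pmat, Matrix.one_apply, Prod.ext_iff]
  congr 1

theorem pmat_mul (σ τ : Perm κ) :
    (pmat (σ * τ) : Matrix (β × κ) (β × κ) F) = pmat σ * pmat τ := by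
  ext a b
  rw [pmat_mul_apply]
  simp [pmat, Equiv.symm_apply_eq]
  congr 1

/-- The block permutation matrices as a homomorphism. -/
def pm : Perm κ →* GL (β × κ) F where
  toFun σ := ⟨pmat σ, pmat σ⁻¹, by rw [← pmat_mul, mul_inv_cancel, pmat_one],
    by rw [← pmat_mul, inv_mul_cancel, pmat_one]⟩
  map_one' := Units.ext pmat_one
  map_mul' σ τ := Units.ext (pmat_mul σ τ)

theorem pm_val (σ : Perm κ) :
    ((pm σ : GL (β × κ) F) : Matrix (β × κ) (β × κ) F) = pmat σ := rfl

theorem pm_mul_bd (σ : Perm κ) (g : κ → GL β F) :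
    pm σ * bd g = bd (fun k => g (σ⁻¹ k)) * (pm σ : GL (β × κ) F) := by
  refine Units.ext ?_
  rw [Units.val_mul, Units.val_mul, pm_val, bd_val, bd_val]
  ext a b
  rw [pmat_mul_apply, mul_pmat_apply, Matrix.blockDiagonal_apply, Matrix.blockDiagonal_apply]
  simp only [Perm.inv_def, Equiv.symm_apply_eq]

theorem pm_conj_bd (σ : Perm κ) (g : κ → GL β F) :
    pm σ * bd g * (pm σ : GL (β × κ) F)⁻¹ = bd (fun k => g (σ⁻¹ k)) := by
  rw [pm_mul_bd, mul_inv_cancel_right]

theorem bd_eq_pm [Nonempty β] {g : κ → GL β F} {σ : Perm κ} (h : bd g = (pm σ : GL (β × κ) F)) :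
    g = 1 ∧ σ = 1 := by
  have hσ : σ = 1 := by
    refine Equiv.ext fun k => ?_
    by_contra hk
    obtain ⟨i⟩ := ‹Nonempty β›
    have := congrArg (fun M : GL (β × κ) F => (M : Matrix (β × κ) (β × κ) F) (i, σ k) (i, k)) h
    simp [bd_val, pm_val, pmat, Matrix.blockDiagonal_apply] at this
    simp [show σ k ≠ k from hk] at this
  subst hσ
  rw [map_one, ← map_one bd] at h
  exact ⟨bd_injective h, rfl⟩

omit [Fintype β] in
theorem sign_refl_prod [Fintype β] (σ : Perm κ) :
    Perm.sign (Equiv.prodCongrRight (fun _ : β => σ)) = Perm.sign σ ^ Fintype.card β := by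
  rw [Perm.sign_prodCongrRight, Finset.prod_const, Finset.card_univ]

theorem det_pm (σ : Perm κ) : ((pm σ : GL (β × κ) F) : Matrix (β × κ) (β × κ) F).det =
    (((Perm.sign σ : ℤ) : F)) ^ Fintype.card β := by
  have h : (pmat σ : Matrix (β × κ) (β × κ) F) =
      Equiv.Perm.permMatrix F (Equiv.prodCongrRight (fun _ : β => σ⁻¹)) := by
    ext a b
    by_cases hab : a.1 = b.1 ∧ a.2 = σ b.2
    · simp [pmat, hab, PEquiv.toMatrix_apply, Equiv.toPEquiv_apply, Prod.ext_iff]
    · rw [pmat, Matrix.of_apply, if_neg hab]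
      simp [PEquiv.toMatrix_apply, Equiv.toPEquiv_apply, Prod.ext_iff, Equiv.symm_apply_eq]
      exact fun h1 h2 => hab ⟨h1, h2⟩
  rw [pm_val, h, Matrix.det_permutation, sign_refl_prod, Perm.sign_inv, Units.val_pow_eq_pow_val]
  push_cast
  rfl

theorem det_bd (g : κ → GL β F) : ((bd g : GL (β × κ) F) : Matrix (β × κ) (β × κ) F).det =
    ∏ k, ((g k : GL β F) : Matrix β β F).det := by
  rw [bd_val, Matrix.det_blockDiagonal]

/-- The wreath product of `S` by `T`. -/
noncomputable def wreath (S : Subgroup (GL β F)) (T : Subgroup (Perm κ)) :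
    Subgroup (GL (β × κ) F) :=
  (Subgroup.pi Set.univ (fun _ : κ => S)).map bd ⊔ T.map pm

theorem pm_mem_normalizer [Finite F] (S : Subgroup (GL β F)) (σ : Perm κ) :
    (pm σ : GL (β × κ) F) ∈ Subgroup.normalizer
      (((Subgroup.pi Set.univ (fun _ : κ => S)).map bd : Subgroup (GL (β × κ) F)) :
        Set (GL (β × κ) F)) := by
  rw [Subgroup.mem_normalizer_iff]
  intro a
  constructor
  · rintro ⟨g, hg, rfl⟩
    exact ⟨_, fun k _ => hg (σ⁻¹ k) trivial, (pm_conj_bd σ g).symm⟩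
  · rintro ⟨g, hg, hga⟩
    refine ⟨fun k => g (σ k), fun k _ => hg (σ k) trivial, ?_⟩
    have h := pm_conj_bd σ (fun k => g (σ k)) (F := F) (β := β)
    simp only [Perm.inv_def, Equiv.apply_symm_apply] at h
    rw [hga] at h
    exact mul_left_cancel (mul_right_cancel h)

theorem mem_wreath [Finite F] {S : Subgroup (GL β F)} {T : Subgroup (Perm κ)}
    {x : GL (β × κ) F} : x ∈ wreath S T ↔
      ∃ (g : κ → GL β F) (σ : Perm κ), (∀ k, g k ∈ S) ∧ σ ∈ T ∧ bd g * pm σ = x := by
  have hN : T.map pm ≤ Subgroup.normalizer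
      (((Subgroup.pi Set.univ (fun _ : κ => S)).map bd : Subgroup (GL (β × κ) F)) :
        Set (GL (β × κ) F)) := by
    rintro _ ⟨σ, -, rfl⟩; exact pm_mem_normalizer S σ
  rw [wreath, ← SetLike.mem_coe, Subgroup.coe_mul_of_right_le_normalizer_left _ _ hN, Set.mem_mul]
  constructor
  · rintro ⟨_, ⟨g, hg, rfl⟩, _, ⟨σ, hσ, rfl⟩, rfl⟩
    exact ⟨g, σ, fun k => hg k trivial, hσ, rfl⟩
  · rintro ⟨g, σ, hg, hσ, rfl⟩
    exact ⟨_, ⟨g, fun k _ => hg k, rfl⟩, _, ⟨σ, hσ, rfl⟩, rfl⟩

theorem bd_mem_wreath {S : Subgroup (GL β F)} {T : Subgroup (Perm κ)} {g : κ → GL β F}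
    (hg : ∀ k, g k ∈ S) : bd g ∈ wreath S T :=
  Subgroup.mem_sup_left ⟨g, fun k _ => hg k, rfl⟩

theorem pm_mem_wreath {S : Subgroup (GL β F)} {T : Subgroup (Perm κ)} {σ : Perm κ}
    (hσ : σ ∈ T) : (pm σ : GL (β × κ) F) ∈ wreath S T :=
  Subgroup.mem_sup_right ⟨σ, hσ, rfl⟩

theorem card_wreath [Finite F] [Nonempty β] (S : Subgroup (GL β F)) (T : Subgroup (Perm κ)) :
    Nat.card (wreath S T) = Nat.card S ^ Fintype.card κ * Nat.card T := by
  let f : (κ → S) × T → wreath S T := fun a =>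
    ⟨bd (fun k => (a.1 k : GL β F)) * pm (a.2 : Perm κ),
      mem_wreath.2 ⟨_, _, fun k => (a.1 k).2, a.2.2, rfl⟩⟩
  have hf : Function.Bijective f := by
    constructor
    · intro a b h
      have h' := congrArg Subtype.val h
      simp only [f] at h'
      have h2 : (bd (fun k => (b.1 k : GL β F)))⁻¹ * bd (fun k => (a.1 k : GL β F)) =
          pm (b.2 : Perm κ) * (pm (a.2 : Perm κ) : GL (β × κ) F)⁻¹ := by
        rw [inv_mul_eq_iff_eq_mul, ← mul_assoc, eq_mul_inv_iff_mul_eq, h']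
      rw [← map_inv, ← map_mul, ← map_inv, ← map_mul] at h2
      obtain ⟨h3, h4⟩ := bd_eq_pm h2
      refine Prod.ext (funext fun k => Subtype.ext ?_) (Subtype.ext ?_)
      · exact (inv_mul_eq_one.1 (congrFun h3 k)).symm
      · exact (mul_inv_eq_one.1 h4).symm
    · rintro ⟨x, hx⟩
      obtain ⟨g, σ, hg, hσ, rfl⟩ := mem_wreath.1 hx
      exact ⟨⟨fun k => ⟨g k, hg k⟩, ⟨σ, hσ⟩⟩, rfl⟩
  rw [← Nat.card_eq_of_bijective f hf, Nat.card_prod, Nat.card_fun, Nat.card_eq_fintype_card (α := κ)]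

/-- If a generating set of `H` has squares in `⁅H, H⁆` then every square of `H` does. -/
theorem sq_mem_commutator {G : Type*} [Group G] {H : Subgroup G} {X : Set G} (hX : X ⊆ H)
    (hgen : H ≤ Subgroup.closure X) (hsq : ∀ x ∈ X, x ^ 2 ∈ ⁅H, H⁆) (x : H) :
    x ^ 2 ∈ commutator H := by
  have hmap : ∀ y : H, y ^ 2 ∈ commutator H ↔ ((y : G) ^ 2) ∈ ⁅H, H⁆ := by
    intro y
    rw [← Subgroup.map_subtype_commutator H, ← SubmonoidClass.coe_pow, ← Subgroup.coe_subtype,
      Subgroup.mem_map_iff_mem H.subtype_injective]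
  let sq : H →* Abelianization H :=
    (powMonoidHom 2 : Abelianization H →* Abelianization H).comp Abelianization.of
  have key : ∀ y : H, y ∈ sq.ker ↔ y ^ 2 ∈ commutator H := fun y => by
    rw [← Abelianization.ker_of, MonoidHom.mem_ker, MonoidHom.mem_ker, map_pow]
    rfl
  rw [← key]
  have hle : Subgroup.closure X ≤ sq.ker.map H.subtype := by
    rw [Subgroup.closure_le]
    exact fun y hy => ⟨⟨y, hX hy⟩, (key _).2 ((hmap _).2 (hsq y hy)), rfl⟩
  obtain ⟨y, hy, hyx⟩ := hle (hgen x.2)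
  rwa [← Subtype.ext hyx]

/-- The property of having all squares in the derived subgroup passes along isomorphisms. -/
theorem sq_mem_commutator_of_equiv {A B : Type*} [Group A] [Group B] (e : A ≃* B)
    (h : ∀ x : A, x ^ 2 ∈ commutator A) (y : B) : y ^ 2 ∈ commutator B := by
  obtain ⟨x, rfl⟩ := e.surjective y
  rw [← map_pow]
  have := Subgroup.mem_map_of_mem e.toMonoidHom (h x)
  rw [commutator_def, Subgroup.map_commutator, Subgroup.map_top_of_surjective _ e.surjective,
    ← commutator_def] at this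
  exact this

end CfsgLib.SylowGLTwo
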