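import Cfsg.Agent.SylowGLTwo.Model
import Cfsg.Agent.SylowGLTwo.Card
import Cfsg.Agent.SymSylow.Generated

/-!
The wreath products as Sylow 2-subgroups, and transport to the linear groups on `Fin n`.
-/

set_option autoImplicit false

open scoped commutatorElement

namespace CfsgLib.SylowGLTwo

open Equiv Matrix

variable {F : Type*} [Field F] [Fintype F]

/-- All squares lie in the derived subgroup. -/
def SqInDerived (G : Type*) [Group G] : Prop := ∀ x : G, x ^ 2 ∈ commutator G

theorem sylow_congr {G H : Type*} [Group G] [Group H] [Finite G] [Finite H] (e : G ≃* H)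
    (P : Sylow 2 G) (Q : Sylow 2 H) :
    Nonempty ((P : Subgroup G) ≃* (Q : Subgroup H)) := by
  haveI : Fact (Nat.Prime 2) := ⟨Nat.prime_two⟩
  let Q' : Sylow 2 H := P.mapSurjective (f := e.toMonoidHom) e.surjective
  exact ⟨((P : Subgroup G).equivMapOfInjective e.toMonoidHom e.injective).trans
    ((MulEquiv.subgroupCongr (Sylow.coe_mapSurjective (f := e.toMonoidHom) e.surjective P)).symm.trans (Q'.equiv Q))⟩

theorem sylow_of_normal {A G : Type*} [Group A] [Finite A] [Group G] [Finite G] (f : A →* G)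
    (hf : Function.Injective f) (hn : f.range.Normal) (W : Sylow 2 G) (Q : Sylow 2 A) :
    Nonempty (((W : Subgroup G) ⊓ f.range : Subgroup G) ≃* (Q : Subgroup A)) := by
  haveI : Fact (Nat.Prime 2) := ⟨Nat.prime_two⟩
  haveI := hn
  obtain ⟨W', hW'⟩ := (Q.isPGroup'.map f).exists_le_sylow
  obtain ⟨g, hg⟩ := MulAction.exists_smul_eq G W W'
  let Wc : Subgroup A := (W : Subgroup G).comap f
  have hWc : IsPGroup 2 Wc := W.isPGroup'.comap_of_injective f hf
  have hmap : Wc.map f = (W : Subgroup G) ⊓ f.range := (Subgroup.map_comap_eq f _).trans (inf_comm _ _)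
  obtain ⟨Q₁, hQ₁⟩ := hWc.exists_le_sylow
  have hle : (Q : Subgroup A).map f ≤
      ((W : Subgroup G) ⊓ f.range).map (MulAut.conj g).toMonoidHom := by
    intro a ha
    have h1 : a ∈ (W' : Subgroup G) := hW' ha
    rw [← hg, Sylow.coe_subgroup_smul] at h1
    obtain ⟨w, hw, rfl⟩ := h1
    obtain ⟨b, -, hb⟩ := ha
    have hr : (MulAut.conj g) w ∈ f.range := ⟨b, hb⟩
    have hwr := hn.conj_mem _ hr g⁻¹
    simp [mul_assoc] at hwr
    exact ⟨w, ⟨hw, hwr⟩, rfl⟩
  have hc := Nat.le_of_dvd Nat.card_pos (Subgroup.card_dvd_of_le hle)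
  rw [Subgroup.card_map_of_injective hf, Subgroup.card_map_of_injective (MulAut.conj g).injective, ← hmap,
    Subgroup.card_map_of_injective hf, Sylow.card_eq_multiplicity, ← Sylow.card_eq_multiplicity Q₁] at hc
  have hWQ : Wc = Q₁ := Subgroup.eq_of_le_of_card_ge hQ₁ hc
  exact ⟨(MulEquiv.subgroupCongr hmap.symm).trans ((Wc.equivMapOfInjective f hf).symm.trans
    ((MulEquiv.subgroupCongr hWQ).trans (Q₁.equiv Q)))⟩

/-- A subgroup whose order is the 2-part is a Sylow 2-subgroup. -/
theorem exists_sylow_eq {G : Type*} [Group G] [Finite G] (H : Subgroup G)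
    (h : Nat.card H = 2 ^ padicValNat 2 (Nat.card G)) : ∃ P : Sylow 2 G, (P : Subgroup G) = H :=
  haveI : Fact (Nat.Prime 2) := ⟨Nat.prime_two⟩
  ⟨Sylow.ofCard H (by rw [h, Nat.factorization_def _ Nat.prime_two]), rfl⟩

theorem card_sylow_perm (n : ℕ) {κ : Type*} [Fintype κ] [DecidableEq κ] (hn : Fintype.card κ = n)
    (T : Sylow 2 (Perm κ)) :
    Nat.card (T : Subgroup (Perm κ)) = 2 ^ padicValNat 2 n.factorial := by
  haveI : Fact (Nat.Prime 2) := ⟨Nat.prime_two⟩
  rw [T.card_eq_multiplicity, Nat.card_perm, Nat.card_eq_fintype_card, hn,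
    Nat.factorization_def _ Nat.prime_two]

variable {β κ : Type*} [Fintype β] [DecidableEq β] [Fintype κ] [DecidableEq κ]

/-- Reindexing a linear group. -/
def glEquiv {n : ℕ} (e : β × κ ≃ Fin n) : GL (β × κ) F ≃* GL (Fin n) F :=
  Units.mapEquiv (Matrix.reindexAlgEquiv F F e).toMulEquiv

theorem det_glEquiv {n : ℕ} (e : β × κ ≃ Fin n) (g : GL (β × κ) F) :
    Matrix.GeneralLinearGroup.det (glEquiv e g) = Matrix.GeneralLinearGroup.det g :=
  Units.ext (Matrix.det_reindex_self e _)

theorem commutator_conj_mem {G : Type*} [Group G] {H : Subgroup G} {g x : G} (hg : g ∈ H)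
    (hx : x ∈ H) : g * x * g⁻¹ * x⁻¹ ∈ ⁅H, H⁆ :=
  Subgroup.commutator_mem_commutator hg hx

theorem map_commutator_le {G H : Type*} [Group G] [Group H] (f : G →* H) {A : Subgroup G}
    {B : Subgroup H} (h : A.map f ≤ B) {x : G} (hx : x ∈ ⁅A, A⁆) : f x ∈ ⁅B, B⁆ := by
  have := Subgroup.mem_map_of_mem f hx
  rw [Subgroup.map_commutator] at this
  exact Subgroup.commutator_mono h h this

/-- The block diagonal element with one nontrivial block. -/
noncomputable def single (k : κ) : GL β F →* GL (β × κ) F :=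
  bd.comp (MonoidHom.mulSingle (fun _ : κ => GL β F) k)

theorem single_mem_wreath {S : Subgroup (GL β F)} {T : Subgroup (Perm κ)} (k : κ) {s : GL β F}
    (hs : s ∈ S) : single k s ∈ wreath S T := by
  refine bd_mem_wreath fun l => ?_
  rcases eq_or_ne l k with rfl | h
  · simpa using hs
  · simp [h, one_mem]

theorem single_sq_mem {S : Subgroup (GL β F)} {T : Subgroup (Perm κ)} (k : κ) {s : GL β F}
    (hs : s ^ 2 ∈ ⁅S, S⁆) : single k s ^ 2 ∈ ⁅wreath S T, wreath S T⁆ := by
  rw [← map_pow]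
  exact map_commutator_le (single k) (by rintro _ ⟨a, ha, rfl⟩; exact single_mem_wreath k ha) hs

theorem bd_eq_noncommProd_mem {H : Subgroup (GL (β × κ) F)} (g : κ → GL β F)
    (h : ∀ k, single k (g k) ∈ H) : bd g ∈ H :=
  Subgroup.pi_mem_of_mulSingle_mem (H := H.comap bd) g h

end CfsgLib.SylowGLTwo
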