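import Cfsg.Agent.SylowGLTwo.Sylow

/-!
Sylow 2-subgroups of `GL (2m)` and `SL (2m)` over fields of order `3 mod 4`:
semidihedral blocks permuted by a Sylow 2-subgroup of the symmetric group.
-/

set_option autoImplicit false

open scoped commutatorElement

namespace CfsgLib.SylowGLTwo

open Equiv Matrix

variable {F : Type*} [Field F] [Fintype F]

/-- Data of a semidihedral Sylow 2-subgroup of `GL (Fin 2) F`. -/
structure SDBlock (F : Type*) [Field F] [Fintype F] (x y : GL (Fin 2) F) (n : ℕ) : Prop where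
  three_le : 3 ≤ n
  val : padicValNat 2 (Fintype.card F + 1) + 1 = n
  order : orderOf x = 2 ^ n
  invol : y * y = 1
  rel : y * x * y⁻¹ = x ^ (2 ^ (n - 1) - 1)
  detx : Matrix.GeneralLinearGroup.det x = -1
  dety : Matrix.GeneralLinearGroup.det y = -1

theorem exists_sdBlock (h4 : Fintype.card F % 4 = 3) :
    ∃ (x y : GL (Fin 2) F) (n : ℕ), SDBlock F x y n := by
  classical
  haveI : Fact (Nat.Prime 2) := ⟨Nat.prime_two⟩
  obtain ⟨p, hp⟩ := CharP.exists F
  haveI : Fact p.Prime := ⟨CharP.char_is_prime F p⟩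
  obtain ⟨k, hk⟩ : ∃ k, padicValNat 2 (Fintype.card F + 1) = k := ⟨_, rfl⟩
  have hk2 : 2 ≤ k := hk ▸ (padicValNat_dvd_iff_le (by omega)).1 (Nat.dvd_of_mod_eq_zero (by omega))
  let L := FiniteField.Extension F p 2
  have hL : Nat.card L = Fintype.card F ^ 2 := by
    rw [FiniteField.natCard_extension, Nat.card_eq_fintype_card]
  have hqk : 2 ^ k ∣ Fintype.card F + 1 := hk ▸ pow_padicValNat_dvd
  have hnot : ¬ 2 ^ (k + 1) ∣ Fintype.card F + 1 := by
    rw [← hk]; exact pow_succ_padicValNat_not_dvd (by omega)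
  have hLu : 2 ^ (k + 1) ∣ Nat.card Lˣ := by
    rw [Nat.card_units, hL]
    have hfac : Fintype.card F ^ 2 - 1 = (Fintype.card F - 1) * (Fintype.card F + 1) := by
      rw [← one_pow 2, Nat.sq_sub_sq, one_pow, mul_comm]
    rw [hfac, pow_succ']
    exact Nat.mul_dvd_mul (Nat.dvd_of_mod_eq_zero (by omega)) hqk
  obtain ⟨c, hc⟩ : ∃ c : Lˣ, orderOf c = 2 ^ (k + 1) := by
    obtain ⟨g, hg⟩ := IsCyclic.exists_ofOrder_eq_natCard (α := Lˣ)
    exact ⟨g ^ (orderOf g / 2 ^ (k + 1)), orderOf_pow_orderOf_div (orderOf_pos g).ne' (hg ▸ hLu)⟩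
  have hcq : c ^ Fintype.card F = c ^ (2 ^ k - 1) := by
    rw [pow_eq_pow_iff_modEq, hc]
    refine Nat.ModEq.add_right_cancel' 1 ?_
    obtain ⟨d, hd⟩ := hqk
    have hdodd : Odd d := by
      rw [← Nat.not_even_iff_odd]
      rintro ⟨e, rfl⟩
      exact hnot ⟨e, by rw [hd]; ring⟩
    obtain ⟨e, rfl⟩ := hdodd
    rw [hd, Nat.sub_add_cancel Nat.one_le_two_pow,
      show 2 ^ k * (2 * e + 1) = 2 ^ k + e * 2 ^ (k + 1) by ring]
    exact Nat.add_mul_modulus_modEq_iff.2 rfl
  set φ : L →ₐ[F] L := (FiniteField.Extension.frob F p 2).toAlgHom with hφ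
  have hφ1 : ∀ v : L, φ v = v ^ Fintype.card F := fun v => by
    rw [hφ, ← Nat.card_eq_fintype_card]; exact FiniteField.Extension.frob_apply F p 2
  have hφ2 : ∀ v : L, φ (φ v) = v := fun v => by
    haveI := Fintype.ofFinite L
    rw [hφ1, hφ1, ← pow_mul, ← pow_two, ← hL, Nat.card_eq_fintype_card, FiniteField.pow_card]
  let bb : Module.Basis (Fin 2) F L :=
    Module.finBasisOfFinrankEq F L (FiniteField.finrank_extension F p 2)
  let E : (Module.End F L)ˣ ≃* GL (Fin 2) F :=
    Units.mapEquiv (LinearMap.toMatrixAlgEquiv bb).toMulEquiv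
  let μ : Lˣ →* (Module.End F L)ˣ := Units.map (Algebra.lmul F L).toMonoidHom
  have hμ : Function.Injective μ := Units.map_injective Algebra.lmul_injective
  let y₀ : (Module.End F L)ˣ :=
    ⟨φ.toLinearMap, φ.toLinearMap, LinearMap.ext hφ2, LinearMap.ext hφ2⟩
  have hrel : y₀ * μ c * y₀⁻¹ = μ c ^ (2 ^ k - 1) := by
    rw [← map_pow, ← hcq]
    refine Units.ext (LinearMap.ext fun v => ?_)
    show φ ((c : L) * φ v) = ((c ^ Fintype.card F : Lˣ) : L) * v
    rw [map_mul, hφ2, hφ1, Units.val_pow_eq_pow_val]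
  have hy2 : y₀ * y₀ = 1 := Units.ext (LinearMap.ext hφ2)
  have hneg : (-1 : F) ≠ 1 := by
    intro h
    have h2 : (2 : F) = 0 := by linear_combination -h
    have hch : ringChar F = 2 := by
      by_contra hch
      exact Ring.two_ne_zero hch h2
    have := FiniteField.even_card_iff_char_two.1 hch
    omega
  have hdetx : Matrix.GeneralLinearGroup.det (E (μ c)) = -1 := by
    refine Units.ext ?_
    show (LinearMap.toMatrixAlgEquiv bb (Algebra.lmul F L (c : L))).det = -1
    rw [show LinearMap.toMatrixAlgEquiv bb (Algebra.lmul F L (c : L)) =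
      LinearMap.toMatrix bb bb (Algebra.lmul F L (c : L)) from rfl, LinearMap.det_toMatrix,
      show LinearMap.det (Algebra.lmul F L (c : L)) = Algebra.norm F (c : L) from (Algebra.norm_apply F _).symm]
    refine (algebraMap F L).injective ?_
    have hq1 : (Fintype.card F ^ 2 - 1) / (Fintype.card F - 1) = Fintype.card F + 1 := by
      rw [← one_pow 2, Nat.sq_sub_sq, one_pow]
      exact Nat.mul_div_left _ (by omega)
    rw [FiniteField.algebraMap_norm_eq_pow, hL, Nat.card_eq_fintype_card (α := F), hq1, map_neg, map_one,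
      ← Units.val_pow_eq_pow_val]
    have hne : c ^ (Fintype.card F + 1) ≠ 1 := fun h =>
      hnot (hc ▸ orderOf_dvd_iff_pow_eq_one.2 h)
    have hsq : c ^ (Fintype.card F + 1) * c ^ (Fintype.card F + 1) = 1 := by
      rw [← pow_add, ← orderOf_dvd_iff_pow_eq_one, hc, pow_succ', ← two_mul]
      exact Nat.mul_dvd_mul_left 2 hqk
    rcases mul_self_eq_one_iff.1 (show ((c ^ (Fintype.card F + 1) : Lˣ) : L) * _ = 1 by
        rw [← Units.val_mul, hsq, Units.val_one]) with h | h
    · exact absurd (Units.val_eq_one.1 h) hne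
    · exact h
  refine ⟨E (μ c), E y₀, k + 1, by omega, by omega, ?_, ?_, ?_, hdetx, ?_⟩
  · rw [MulEquiv.orderOf_eq, orderOf_injective μ hμ, hc]
  · rw [← map_mul, hy2, map_one]
  · rw [← map_inv, ← map_mul, ← map_mul, hrel, map_pow, Nat.add_sub_cancel]
  · set d := Matrix.GeneralLinearGroup.det (E y₀) with hd
    have hd2 : d * d = 1 := by rw [hd, ← map_mul, ← map_mul, hy2, map_one, map_one]
    rcases mul_self_eq_one_iff.1 (show (d : F) * d = 1 by rw [← Units.val_mul, hd2, Units.val_one]) with h | h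
    · exfalso
      set M := LinearMap.toMatrixAlgEquiv bb φ.toLinearMap with hM
      have hMM : M * M = 1 := by
        rw [hM, ← map_mul, show φ.toLinearMap * φ.toLinearMap = 1 from LinearMap.ext hφ2, map_one]
      have hdetM : M 0 0 * M 1 1 - M 0 1 * M 1 0 = 1 := (Matrix.det_fin_two M).symm.trans h
      have e00 := congrFun (congrFun hMM 0) 0
      have e01 := congrFun (congrFun hMM 0) 1
      have e10 := congrFun (congrFun hMM 1) 0
      have e11 := congrFun (congrFun hMM 1) 1
      simp [Matrix.mul_apply, Fin.sum_univ_two] at e00 e01 e10 e11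
      have h2ne : (2 : F) ≠ 0 := fun h2 => hneg (by linear_combination -h2)
      have ht : M 0 0 * M 0 0 + M 0 0 * M 1 1 = 2 := by linear_combination e00 + hdetM
      have h01 : M 0 1 = 0 := by
        have : (M 0 0 * M 0 0 + M 0 0 * M 1 1) * M 0 1 = 0 := by linear_combination M 0 0 * e01
        rw [ht] at this
        exact (mul_eq_zero.1 this).resolve_left h2ne
      have h10 : M 1 0 = 0 := by
        have : (M 0 0 * M 0 0 + M 0 0 * M 1 1) * M 1 0 = 0 := by linear_combination M 0 0 * e10
        rw [ht] at this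
        exact (mul_eq_zero.1 this).resolve_left h2ne
      rw [h01] at e00 hdetM
      have h11 : M 1 1 = M 0 0 := by
        linear_combination M 0 0 * hdetM - M 1 1 * e00
      have hsc : M = Matrix.scalar (Fin 2) (M 0 0) := by
        ext i j; fin_cases i <;> fin_cases j <;> simp [h01, h10, h11]
      have hcomm : y₀ * μ c = μ c * y₀ := by
        refine E.injective ?_
        rw [map_mul, map_mul]
        refine Units.ext ?_
        show M * _ = _ * M
        rw [hsc]
        exact (Matrix.scalar_commute _ (fun r' => Commute.all _ r') _).eq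
      rw [hcomm, mul_inv_cancel_right] at hrel
      have h2 : c ^ 1 = c ^ (2 ^ k - 1) := hμ (by rw [map_pow, map_pow, pow_one, ← hrel])
      rw [pow_eq_pow_iff_modEq, hc] at h2
      have h4k : 4 ≤ 2 ^ k := le_trans (by norm_num) (Nat.pow_le_pow_right two_pos hk2)
      have := Nat.ModEq.eq_of_lt_of_lt h2 (by rw [pow_succ]; omega) (by rw [pow_succ]; omega)
      omega
    · exact Units.ext h

namespace SDBlock

variable {x y : GL (Fin 2) F} {n : ℕ}

/-- The group generated by the block generators. -/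
def grp (_h : SDBlock F x y n) : Subgroup (GL (Fin 2) F) :=
  Subgroup.zpowers x ⊔ Subgroup.zpowers y

variable (h : SDBlock F x y n)
include h

theorem x_mem : x ∈ h.grp := Subgroup.mem_sup_left (Subgroup.mem_zpowers x)
theorem y_mem : y ∈ h.grp := Subgroup.mem_sup_right (Subgroup.mem_zpowers y)

theorem normalizes : y ∈ Subgroup.normalizer (Subgroup.zpowers x : Set (GL (Fin 2) F)) := by
  have hc : ∀ a ∈ Subgroup.zpowers x, y * a * y⁻¹ ∈ Subgroup.zpowers x := by
    rintro a ⟨i, rfl⟩
    simp only [← conj_zpow, h.rel]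
    exact zpow_mem (pow_mem (Subgroup.mem_zpowers x) _) i
  rw [Subgroup.mem_normalizer_iff]
  intro a
  refine ⟨hc a, fun ha => ?_⟩
  have h2 := hc _ ha
  rw [inv_eq_of_mul_eq_one_left h.invol] at h2
  have : y * (y * a * y) * y = a := by
    rw [show y * (y * a * y) * y = y * y * a * (y * y) by simp [mul_assoc], h.invol, one_mul, mul_one]
  rwa [this] at h2

theorem grp_cases {s : GL (Fin 2) F} (hs : s ∈ h.grp) :
    ∃ i : ℕ, s = x ^ i ∨ s = x ^ i * y := by
  rw [grp, ← SetLike.mem_coe, Subgroup.coe_mul_of_right_le_normalizer_left _ _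
    (Subgroup.zpowers_le.2 h.normalizes), Set.mem_mul] at hs
  obtain ⟨a, ha, b, hb, rfl⟩ := hs
  obtain ⟨i, rfl⟩ := mem_powers_iff_mem_zpowers.2 ha
  obtain ⟨j, rfl⟩ := mem_powers_iff_mem_zpowers.2 hb
  refine ⟨i, ?_⟩
  rcases Nat.even_or_odd' j with ⟨l, rfl | rfl⟩
  · left; simp [pow_mul, pow_two, h.invol]
  · right; simp [pow_succ, pow_mul, pow_two, h.invol]

theorem y_not_mem : y ∉ Subgroup.zpowers x := by
  rintro ⟨i, hi⟩
  simp only at hi
  have hc : y * x * y⁻¹ = x := by
    rw [← hi, mul_inv_eq_iff_eq_mul]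
    exact (Commute.refl x).zpow_left i
  rw [h.rel] at hc
  conv_rhs at hc => rw [← pow_one x]
  rw [pow_eq_pow_iff_modEq, h.order] at hc
  have h4k : 4 ≤ 2 ^ (n - 1) :=
    le_trans (by norm_num : 4 ≤ 2 ^ 2) (Nat.pow_le_pow_right two_pos (by have := h.three_le; omega))
  have h2n : 2 ^ n = 2 * 2 ^ (n - 1) := by
    rw [← pow_succ']; congr 1; have := h.three_le; omega
  have := Nat.ModEq.eq_of_lt_of_lt hc (by omega) (by omega)
  omega

theorem card_grp : Nat.card h.grp = 2 ^ (n + 1) := by
  have : Nat.card h.grp = Nat.card (Subgroup.zpowers x) * 2 := by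
    have hrel : (Subgroup.zpowers x).relIndex h.grp = 2 := by
      rw [Subgroup.relIndex, Subgroup.index_eq_two_iff]
      refine ⟨⟨y, h.y_mem⟩, fun b => ?_⟩
      simp only [Subgroup.mem_subgroupOf, Subgroup.coe_mul, xor_iff_iff_not]
      obtain ⟨i, hi | hi⟩ := h.grp_cases b.2
      · rw [hi, Subgroup.mul_mem_cancel_left _ (pow_mem (Subgroup.mem_zpowers x) i)]
        exact iff_of_false h.y_not_mem (not_not_intro (pow_mem (Subgroup.mem_zpowers x) i))
      · rw [hi, mul_assoc, h.invol, mul_one, Subgroup.mul_mem_cancel_left _ (pow_mem (Subgroup.mem_zpowers x) i)]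
        exact iff_of_true (pow_mem (Subgroup.mem_zpowers x) i) h.y_not_mem
    have h2 := ((Subgroup.zpowers x).subgroupOf h.grp).card_mul_index
    rw [← Subgroup.relIndex, hrel, Nat.card_congr
      (Subgroup.subgroupOfEquivOfLe (H := Subgroup.zpowers x) (K := h.grp) le_sup_left).toEquiv] at h2
    exact h2.symm
  rw [this, Nat.card_zpowers, h.order, pow_succ]

theorem pow_mem_of_odd {K : Subgroup (GL (Fin 2) F)} {a j : ℕ} (hj : Odd j) (hm : x ^ (a * j) ∈ K) :
    x ^ a ∈ K := by
  have hco : (orderOf (x ^ a)).Coprime j := by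
    refine Nat.Coprime.coprime_dvd_left (orderOf_pow_dvd a) ?_
    rw [h.order]
    exact Nat.Coprime.pow_left _ ((Nat.coprime_two_left).2 hj)
  obtain ⟨m, hm'⟩ := exists_pow_eq_self_of_coprime hco.symm
  rw [← hm']
  rw [pow_mul] at hm
  exact pow_mem hm m

theorem pred_eq : 2 ^ (n - 1) = 4 * 2 ^ (n - 3) := by
  have := h.three_le
  rw [show n - 1 = 2 + (n - 3) by omega, pow_add]
  norm_num

theorem x_sq_mem : x ^ 2 ∈ ⁅h.grp, h.grp⁆ := by
  refine h.pow_mem_of_odd (j := 2 * 2 ^ (n - 3) - 1) ?_ ?_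
  · exact Nat.odd_iff.2 (by have : 1 ≤ 2 ^ (n - 3) := Nat.one_le_two_pow; omega)
  · have := commutator_conj_mem h.y_mem h.x_mem
    rw [h.rel] at this
    have e : x ^ (2 ^ (n - 1) - 1) * x⁻¹ = x ^ (2 * (2 * 2 ^ (n - 3) - 1)) := by
      have h1 := h.pred_eq
      have h2 : 1 ≤ 2 ^ (n - 3) := Nat.one_le_two_pow
      rw [show 2 ^ (n - 1) - 1 = 2 * (2 * 2 ^ (n - 3) - 1) + 1 by omega, pow_succ, mul_inv_cancel_right]
    rwa [e] at this

/-- The part of determinant one. -/
noncomputable def special : Subgroup (GL (Fin 2) F) :=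
  h.grp ⊓ (Matrix.GeneralLinearGroup.det : GL (Fin 2) F →* Fˣ).ker

theorem det_cases {s : GL (Fin 2) F} (hs : s ∈ h.grp) :
    s ∈ h.special ∨ s * y ∈ h.special := by
  obtain ⟨i, hi⟩ := h.grp_cases hs
  have hd : Matrix.GeneralLinearGroup.det s = 1 ∨ Matrix.GeneralLinearGroup.det s = -1 := by
    rcases hi with rfl | rfl
    · rw [map_pow, h.detx]; exact (neg_one_pow_eq_or _ i)
    · rw [map_mul, map_pow, h.detx, h.dety, ← pow_succ]; exact (neg_one_pow_eq_or _ (i + 1))
  rcases hd with hd | hd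
  · exact Or.inl ⟨hs, hd⟩
  · exact Or.inr ⟨mul_mem hs h.y_mem, by simp [MonoidHom.mem_ker, hd, h.dety]⟩

theorem sq_mem_special : x ^ 2 ∈ h.special :=
  ⟨pow_mem h.x_mem 2, by simp [MonoidHom.mem_ker, h.detx]⟩

theorem xy_mem_special : x * y ∈ h.special :=
  ⟨mul_mem h.x_mem h.y_mem, by simp [MonoidHom.mem_ker, h.detx, h.dety]⟩

theorem special_le_closure : h.special ≤ Subgroup.closure ({x ^ 2, x * y} : Set (GL (Fin 2) F)) := by
  intro s hs
  obtain ⟨i, hi⟩ := h.grp_cases hs.1
  have hd : Matrix.GeneralLinearGroup.det s = 1 := hs.2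
  have hne : (-1 : Fˣ) ≠ 1 := by
    intro e
    have he := congrArg Units.val e
    simp only [Units.val_neg, Units.val_one] at he
    have h2 : (2 : F) = 0 := by linear_combination -he
    have hch : ringChar F = 2 := by
      by_contra hch
      exact Ring.two_ne_zero hch h2
    have h3 := FiniteField.even_card_iff_char_two.1 hch
    have h5 := h.val
    have h6 := h.three_le
    rw [padicValNat.eq_zero_of_not_dvd (n := Fintype.card F + 1) (by omega)] at h5
    omega
  rcases Nat.even_or_odd' i with ⟨l, rfl | rfl⟩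
  · rcases hi with rfl | rfl
    · rw [pow_mul]
      exact pow_mem (Subgroup.subset_closure (k := ({x ^ 2, x * y} : Set (GL (Fin 2) F))) (Or.inl rfl)) l
    · rw [map_mul, map_pow, h.detx, h.dety, pow_mul, neg_one_sq, one_pow, one_mul] at hd
      exact absurd hd hne
  · rcases hi with rfl | rfl
    · rw [map_pow, h.detx, pow_succ, pow_mul, neg_one_sq, one_pow, one_mul] at hd
      exact absurd hd hne
    · rw [pow_succ (x) (2 * l), pow_mul, mul_assoc]
      exact mul_mem (pow_mem (Subgroup.subset_closure (k := ({x ^ 2, x * y} : Set (GL (Fin 2) F))) (Or.inl rfl)) l)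
        (Subgroup.subset_closure (Or.inr rfl))

theorem x_four_mem : x ^ 4 ∈ ⁅h.special, h.special⁆ := by
  refine h.pow_mem_of_odd (j := 2 * 2 ^ (n - 3) - 1) ?_ ?_
  · exact Nat.odd_iff.2 (by have : 1 ≤ 2 ^ (n - 3) := Nat.one_le_two_pow; omega)
  · have := commutator_conj_mem h.xy_mem_special h.sq_mem_special
    have e : x * y * x ^ 2 * (x * y)⁻¹ * (x ^ 2)⁻¹ = x ^ (4 * (2 * 2 ^ (n - 3) - 1)) := by
      have h1 := h.pred_eq
      have h2 : 1 ≤ 2 ^ (n - 3) := Nat.one_le_two_pow
      rw [show x * y * x ^ 2 * (x * y)⁻¹ = x * (y * x ^ 2 * y⁻¹) * x⁻¹ by group, ← conj_pow, h.rel,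
        ← pow_mul, ← pow_succ', mul_assoc, ← _root_.mul_inv_rev, ← pow_succ, mul_inv_eq_iff_eq_mul,
        ← pow_add]
      congr 1
      omega
    rwa [e] at this

theorem xy_sq_mem : (x * y) ^ 2 ∈ ⁅h.special, h.special⁆ := by
  have e : (x * y) ^ 2 = (x ^ 4) ^ (2 ^ (n - 3)) := by
    rw [pow_two, show x * y * (x * y) = x * (y * x * y⁻¹) * (y * y) by group, h.rel, h.invol, mul_one,
      ← pow_succ', ← pow_mul, ← h.pred_eq, Nat.sub_add_cancel Nat.one_le_two_pow]
  rw [e]
  exact pow_mem h.x_four_mem _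

variable {κ : Type} [Fintype κ] [DecidableEq κ]

theorem sqInDerived_wreath (T : Sylow 2 (Perm κ)) :
    SqInDerived (wreath h.grp (T : Subgroup (Perm κ))) := by
  haveI : Fact (Nat.Prime 2) := ⟨Nat.prime_two⟩
  let X : Set (GL (Fin 2 × κ) F) := {g | (∃ k, g = single k x) ∨ (∃ k, g = single k y) ∨
    ∃ τ ∈ (T : Subgroup (Perm κ)), τ ^ 2 = 1 ∧ g = pm τ}
  refine sq_mem_commutator (X := X) ?_ ?_ ?_
  · rintro g (⟨k, rfl⟩ | ⟨k, rfl⟩ | ⟨τ, hτ, -, rfl⟩)
    · exact single_mem_wreath k h.x_mem
    · exact single_mem_wreath k h.y_mem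
    · exact pm_mem_wreath hτ
  · intro w hw
    obtain ⟨g, σ, hg, hσ, rfl⟩ := mem_wreath.1 hw
    refine mul_mem (bd_eq_noncommProd_mem g fun k => ?_) ?_
    · have : h.grp ≤ (Subgroup.closure X).comap (single k) := by
        rw [grp, sup_le_iff, Subgroup.zpowers_le, Subgroup.zpowers_le]
        exact ⟨Subgroup.subset_closure (Or.inl ⟨k, rfl⟩), Subgroup.subset_closure (Or.inr (Or.inl ⟨k, rfl⟩))⟩
      exact this (hg k)
    · have : Subgroup.closure {τ | τ ∈ (T : Subgroup (Perm κ)) ∧ τ ^ 2 = 1} ≤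
          (Subgroup.closure X).comap pm := by
        rw [Subgroup.closure_le]
        rintro τ ⟨h1, h2⟩
        exact Subgroup.subset_closure (Or.inr (Or.inr ⟨τ, h1, h2, rfl⟩))
      exact this ((CfsgLib.SymSylow.Mono.gen_all 2 T).1 hσ)
  · rintro g (⟨k, rfl⟩ | ⟨k, rfl⟩ | ⟨τ, -, hτ, rfl⟩)
    · exact single_sq_mem k h.x_sq_mem
    · rw [← map_pow, pow_two, h.invol, map_one]; exact one_mem _
    · rw [← map_pow, hτ, map_one]; exact one_mem _

theorem sqInDerived_wreath_det [Nonempty κ] (T : Sylow 2 (Perm κ)) :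
    SqInDerived (wreath h.grp (T : Subgroup (Perm κ)) ⊓
      (Matrix.GeneralLinearGroup.det : GL (Fin 2 × κ) F →* Fˣ).ker : Subgroup (GL (Fin 2 × κ) F)) := by
  classical
  haveI : Fact (Nat.Prime 2) := ⟨Nat.prime_two⟩
  set W := wreath h.grp (T : Subgroup (Perm κ)) with hW
  set D := (Matrix.GeneralLinearGroup.det : GL (Fin 2 × κ) F →* Fˣ).ker with hD
  have hsingle : ∀ k (s : GL (Fin 2) F),
      Matrix.GeneralLinearGroup.det (single (κ := κ) k s) = Matrix.GeneralLinearGroup.det s := by
    intro k s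
    refine Units.ext ?_
    show (Units.val (bd (Pi.mulSingle k s))).det = _
    rw [det_bd, Finset.prod_eq_single k (fun l _ hl => by simp [hl]) (by simp)]
    simp
  have hpm : ∀ σ, (pm σ : GL (Fin 2 × κ) F) ∈ D := by
    intro σ
    refine Units.ext ?_
    show (Units.val (pm σ : GL (Fin 2 × κ) F)).det = 1
    rw [det_pm, Fintype.card_fin]
    rcases Int.units_eq_one_or (Perm.sign σ) with e | e <;> simp [e]
  have hspecial : ∀ k, h.special.map (single k) ≤ W ⊓ D := by
    rintro k _ ⟨s, hs, rfl⟩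
    refine ⟨single_mem_wreath k hs.1, ?_⟩
    show single k s ∈ D
    rw [hD, MonoidHom.mem_ker, hsingle]; exact hs.2
  let X : Set (GL (Fin 2 × κ) F) := {g | (∃ k, g = single k (x ^ 2)) ∨ (∃ k, g = single k (x * y)) ∨
    (∃ k l, g = single k y * single l y) ∨ ∃ τ ∈ (T : Subgroup (Perm κ)), τ ^ 2 = 1 ∧ g = pm τ}
  refine sq_mem_commutator (X := X) ?_ ?_ ?_
  · rintro g (⟨k, rfl⟩ | ⟨k, rfl⟩ | ⟨k, l, rfl⟩ | ⟨τ, hτ, -, rfl⟩)
    · exact hspecial k ⟨_, h.sq_mem_special, rfl⟩
    · exact hspecial k ⟨_, h.xy_mem_special, rfl⟩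
    · exact ⟨mul_mem (single_mem_wreath k h.y_mem) (single_mem_wreath l h.y_mem),
        by show single k y * single l y ∈ D
           rw [hD, MonoidHom.mem_ker, map_mul, hsingle, hsingle, h.dety]; simp⟩
    · exact ⟨pm_mem_wreath hτ, hpm τ⟩
  · rintro w ⟨hw, hwd⟩
    obtain ⟨g, σ, hg, hσ, rfl⟩ := mem_wreath.1 hw
    have hσX : (pm σ : GL (Fin 2 × κ) F) ∈ Subgroup.closure X := by
      have : Subgroup.closure {τ | τ ∈ (T : Subgroup (Perm κ)) ∧ τ ^ 2 = 1} ≤
          (Subgroup.closure X).comap pm := by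
        rw [Subgroup.closure_le]
        rintro τ ⟨h1, h2⟩
        exact Subgroup.subset_closure (Or.inr (Or.inr (Or.inr ⟨τ, h1, h2, rfl⟩)))
      exact this ((CfsgLib.SymSylow.Mono.gen_all 2 T).1 hσ)
    refine mul_mem ?_ hσX
    have hbd : bd g ∈ D := by
      have hmul : bd g * (pm σ : GL (Fin 2 × κ) F) ∈ D := hwd
      exact (Subgroup.mul_mem_cancel_right D (hpm σ)).1 hmul
    let E : Finset κ := Finset.univ.filter fun k => g k ∉ h.special
    let v : κ → GL (Fin 2) F := fun k => if k ∈ E then y else 1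
    have hu : ∀ k, g k * v k ∈ h.special := by
      intro k
      by_cases hk : g k ∈ h.special
      · simp [v, E, hk]
      · simp [v, E, hk, (h.det_cases (hg k)).resolve_left hk]
    have hsplit : bd g = bd (fun k => g k * v k) * bd v := by
      rw [← map_mul]
      congr 1
      funext k
      by_cases hk : k ∈ E <;> simp [v, hk, mul_assoc, h.invol]
    have hubd : bd (fun k => g k * v k) ∈ Subgroup.closure X := by
      refine bd_eq_noncommProd_mem _ fun k => ?_
      have : Subgroup.closure ({x ^ 2, x * y} : Set (GL (Fin 2) F)) ≤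
          (Subgroup.closure X).comap (single k) := by
        rw [Subgroup.closure_le]
        rintro _ (rfl | rfl)
        · exact Subgroup.subset_closure (Or.inl ⟨k, rfl⟩)
        · exact Subgroup.subset_closure (Or.inr (Or.inl ⟨k, rfl⟩))
      exact this (h.special_le_closure (hu k))
    rw [hsplit]
    refine mul_mem hubd ?_
    obtain ⟨k₀⟩ := ‹Nonempty κ›
    have hE : ∀ E' : Finset κ, bd (fun k => if k ∈ E' then y else 1) * single k₀ y ^ E'.card ∈
        Subgroup.closure X := by
      intro E'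
      induction E' using Finset.induction_on with
      | empty => simp [show (fun _ : κ => (1 : GL (Fin 2) F)) = 1 from rfl, one_mem]
      | insert a E' ha ih =>
        have e1 : (fun k => if k ∈ insert a E' then y else 1) =
            Pi.mulSingle a y * fun k => if k ∈ E' then y else 1 := by
          funext k
          rcases eq_or_ne k a with rfl | hk
          · simp [ha]
          · simp [hk]
        have hcomm : Commute (single k₀ y) (bd fun k => if k ∈ E' then y else 1) := by
          refine Commute.map ?_ bd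
          refine funext fun k => ?_
          simp only [Pi.mul_apply, MonoidHom.mulSingle_apply]
          rcases eq_or_ne k k₀ with rfl | hk
          · by_cases hk' : k ∈ E' <;> simp [hk']
          · simp [hk]
        rw [Finset.card_insert_of_notMem ha, e1, map_mul, pow_succ', mul_assoc,
          ← mul_assoc (bd fun k => if k ∈ E' then y else 1), ← hcomm.eq, mul_assoc, ← mul_assoc]
        exact mul_mem (Subgroup.subset_closure (Or.inr (Or.inr (Or.inl ⟨a, k₀, rfl⟩)))) ih
    have hv : (bd v : GL (Fin 2 × κ) F) ∈ D := by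
      have hu' : bd (fun k => g k * v k) ∈ D := by
        refine Units.ext ?_
        show (Units.val (bd fun k => g k * v k)).det = 1
        rw [det_bd, Finset.prod_eq_one]
        intro k _
        exact congrArg Units.val (hu k).2
      rw [hsplit] at hbd
      exact (Subgroup.mul_mem_cancel_left D hu').1 hbd
    have hdet : (-1 : F) ^ E.card = 1 := by
      have := congrArg Units.val (MonoidHom.mem_ker.1 hv)
      change (Units.val (bd v)).det = 1 at this
      rw [det_bd] at this
      refine Eq.trans ?_ this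
      rw [← Finset.prod_const, ← Finset.prod_subset (Finset.subset_univ E)
        (f := fun k => ((v k : GL (Fin 2) F) : Matrix (Fin 2) (Fin 2) F).det)]
      · refine Finset.prod_congr rfl fun k hk => ?_
        have := congrArg Units.val h.dety
        simp [v, hk] at this ⊢
        exact this.symm
      · intro k _ hk; simp [v, hk]
    have heven : Even E.card := by
      by_contra ho
      rw [(Nat.not_even_iff_odd.1 ho).neg_one_pow] at hdet
      have h5 := h.val
      have h2 : (2 : F) = 0 := by linear_combination -hdet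
      have hch : ringChar F = 2 := by
        by_contra hch
        exact Ring.two_ne_zero hch h2
      have h3 := FiniteField.even_card_iff_char_two.1 hch
      have h6 := h.three_le
      rw [padicValNat.eq_zero_of_not_dvd (n := Fintype.card F + 1) (by omega)] at h5
      omega
    obtain ⟨l, hl⟩ := heven
    have := hE E
    rw [hl, ← two_mul, pow_mul, ← map_pow, pow_two, h.invol, map_one, one_pow, mul_one] at this
    exact this
  · have hle : ∀ k (s : GL (Fin 2) F), s ^ 2 ∈ ⁅h.special, h.special⁆ →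
        single k s ^ 2 ∈ ⁅W ⊓ D, W ⊓ D⁆ := by
      intro k s hs
      rw [← map_pow]
      exact map_commutator_le (single k) (hspecial k) hs
    rintro g (⟨k, rfl⟩ | ⟨k, rfl⟩ | ⟨k, l, rfl⟩ | ⟨τ, -, hτ, rfl⟩)
    · refine hle k _ ?_
      rw [← pow_mul]; exact h.x_four_mem
    · exact hle k _ h.xy_sq_mem
    · have hc : Commute (single (κ := κ) k y) (single l y) := by
        rcases eq_or_ne k l with rfl | hkl
        · exact Commute.refl _
        · exact (Pi.mulSingle_commute hkl y y).map bd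
      rw [hc.mul_pow, ← map_pow, ← map_pow, pow_two, h.invol, map_one, map_one, one_mul]
      exact one_mem _
    · rw [← map_pow, hτ, map_one]; exact one_mem _

theorem exists_sylow_wreath (m : ℕ) (T : Sylow 2 (Perm (Fin m))) :
    ∃ P : Sylow 2 (GL (Fin 2 × Fin m) F),
      (P : Subgroup (GL (Fin 2 × Fin m) F)) = wreath h.grp (T : Subgroup (Perm (Fin m))) := by
  haveI : Fact (Nat.Prime 2) := ⟨Nat.prime_two⟩
  refine exists_sylow_eq _ ?_
  have h5 := h.val
  have h6 := h.three_le
  have h4 : Fintype.card F % 4 = 3 := by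
    by_contra h4
    have h8 : ¬ 2 ^ 2 ∣ Fintype.card F + 1 := by omega
    rw [padicValNat_dvd_iff_le (by omega)] at h8
    omega
  rw [card_wreath, h.card_grp, card_sylow_perm m (Fintype.card_fin m) T, Fintype.card_fin, ← pow_mul, ← pow_add,
    Nat.card_congr (glEquiv (F := F) (finProdFinEquiv (m := 2) (n := m))).toEquiv, padic_two_gl_three h4]
  congr 1
  rw [show padicValNat 2 (Fintype.card F + 1) + 2 = n + 1 by omega]
  ring

end SDBlock

end CfsgLib.SylowGLTwo
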